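import Groth.Agent.L07.GeomRk.DepthFlat
import Groth.Agent.L07.CIScheme
import Groth.Agent.L10.RelCan.DepthSheaf
import Groth.Agent.L10.RelCan.Hartogs
import Groth.Agent.L16.SecComp.Smooth
import Groth.Agent.L01.DepthBasic
import Groth.Prelude.Def_TorSh

/-!
Depth of pullbacks to products with a smooth curve.
-/

set_option autoImplicit false
set_option linter.style.haveILetI false
set_option maxSynthPendingDepth 3
set_option backward.isDefEq.respectTransparency.types false
set_option backward.isDefEq.respectTransparency false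
universe u

open CategoryTheory CategoryTheory.Limits AlgebraicGeometry TopologicalSpace IsLocalRing
open scoped TensorProduct Pointwise

namespace Groth.L11.ProdDepth

/-- In a reduced scheme, a point with a proper generization has a regular element in its maximal ideal. -/
theorem exists_regular {X : Scheme.{u}} [IsReduced X] [IsLocallyNoetherian X] {u x : X} (h : u ⤳ x)
    (hne : u ≠ x) : ∃ r ∈ maximalIdeal (X.presheaf.stalk x), IsRegular r := by
  let R := X.presheaf.stalk x
  obtain ⟨Q, rfl⟩ : u ∈ Set.range (X.fromSpecStalk x) := by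
    rw [Scheme.range_fromSpecStalk]; exact h
  let Q' : PrimeSpectrum R := Q
  obtain ⟨r, hrI, hr⟩ : ∃ r ∈ maximalIdeal R, ∀ P ∈ minimalPrimes R, r ∉ P := by
    by_contra! hall
    obtain ⟨P, hP, hle⟩ := (Ideal.subset_union_prime_finite (minimalPrimes.finite_of_isNoetherianRing R) (f := id) ⊥ ⊥
      (fun P hP _ _ => hP.isPrime)).1 (show (maximalIdeal R : Set R) ⊆ ⋃ P ∈ minimalPrimes R, (P : Set R) from
        fun r hr => let ⟨P, hP, hrP⟩ := hall r hr; Set.mem_iUnion₂.2 ⟨P, hP, hrP⟩)
    have hQm : Q'.asIdeal ≤ maximalIdeal R := le_maximalIdeal (Ideal.IsPrime.ne_top inferInstance)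
    have hPm : P ≤ Q'.asIdeal := hP.2 ⟨Q'.2, bot_le⟩ (hQm.trans hle)
    refine hne ?_
    rw [show Q = closedPoint R from PrimeSpectrum.ext (le_antisymm hQm (hle.trans hPm))]
    exact Scheme.fromSpecStalk_closedPoint
  refine ⟨r, hrI, ?_⟩
  rw [Commute.isRegular_iff (Commute.all r)]
  intro a b hab
  have h : a - b ∈ sInf (minimalPrimes R) := Ideal.mem_sInf.2 fun {P} hP =>
    (hP.isPrime.mem_or_mem (show r * (a - b) ∈ P by
      replace hab : r * a = r * b := hab
      rw [mul_sub, hab, sub_self]; exact P.zero_mem)).resolve_left (hr P hP)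
  rw [minimalPrimes, Ideal.sInf_minimalPrimes] at h
  exact sub_eq_zero.1 ((IsReduced.eq_zero (a - b) h))

/-- A closed point which is not open in a Noetherian scheme has a proper generization. -/
theorem exists_generization {X : Scheme.{u}} [NoetherianSpace X] {x : X} (hx : IsClosed ({x} : Set X))
    (hno : ¬ IsOpen ({x} : Set X)) : ∃ u : X, u ⤳ x ∧ u ≠ x := by
  by_contra! hall
  refine hno (isClosed_compl_iff.1 ?_)
  have hset : ({x} : Set X)ᶜ = ⋃₀ (irreducibleComponents X \ {{x}}) := by
    ext y
    constructor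
    · intro hy
      refine ⟨irreducibleComponent y, ⟨irreducibleComponent_mem_irreducibleComponents y, fun he => hy ?_⟩,
        mem_irreducibleComponent⟩
      exact (Set.mem_singleton_iff.1 he) ▸ mem_irreducibleComponent (x := y)
    · rintro ⟨W, ⟨hW, hWx⟩, hyW⟩ (rfl : y = x)
      obtain ⟨η, hη⟩ := QuasiSober.sober hW.1 (isClosed_of_mem_irreducibleComponents W hW)
      have := hall η (hη.specializes hyW)
      refine hWx ?_
      rw [Set.mem_singleton_iff, ← hη.def, this, hx.closure_eq]
  rw [hset, Set.sUnion_eq_biUnion]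
  exact (NoetherianSpace.finite_irreducibleComponents.subset Set.sdiff_subset).isClosed_biUnion
    fun W hW => isClosed_of_mem_irreducibleComponents W hW.1

/-- The fibres of a projection from a product over a field are flat over the other factor, so have
proper generizations over non-generic points. -/
theorem exists_fibre_generization {k : Type u} [Field k] {X C : Scheme.{u}} (p : X ⟶ Spec (CommRingCat.of k))
    (q : C ⟶ Spec (CommRingCat.of k)) (z : ↑(pullback p q)) {η : C} (hη : η ⤳ pullback.snd p q z)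
    (hne : η ≠ pullback.snd p q z) :
    ∃ v : ↑((pullback.fst p q).fiber (pullback.fst p q z)),
      v ⤳ (pullback.fst p q).asFiber z ∧ v ≠ (pullback.fst p q).asFiber z := by
  let g := pullback.fst p q
  let s := g z
  let ι : g.fiber s ⟶ pullback p q := g.fiberι s
  have hsq : IsPullback (ι ≫ pullback.snd p q) (g.fiberToSpecResidueField s) q
      (X.fromSpecResidueField s ≫ p) :=
    IsPullback.paste_horiz
      (IsPullback.of_hasPullback g (X.fromSpecResidueField s)) (IsPullback.of_hasPullback p q).flip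
  haveI : Flat (X.fromSpecResidueField s ≫ p) := inferInstance
  haveI : Flat (ι ≫ pullback.snd p q) := MorphismProperty.of_isPullback hsq.flip inferInstance
  have hz : (ι ≫ pullback.snd p q) (g.asFiber z) = pullback.snd p q z := by
    rw [Scheme.Hom.comp_apply]
    exact congrArg _ (g.fiberι_asFiber z)
  obtain ⟨v, hv, hve⟩ := Flat.generalizingMap (ι ≫ pullback.snd p q) (hz ▸ hη : η ⤳ (ι ≫ pullback.snd p q) (g.asFiber z))
  exact ⟨v, hv, fun h => hne (by rw [← hve, h]; exact hz)⟩

/-- A regular element of the fibre lifts to one on the closed fibre module. -/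
theorem one_le_depth_fibMod {Z X : Scheme.{u}} (g : Z ⟶ X) (z : Z) {r : (g.fiber (g z)).presheaf.stalk (g.asFiber z)}
    (hr : r ∈ maximalIdeal _) (hreg : IsRegular r) :
    letI := (g.stalkMap z).hom.toAlgebra
    (1 : ℕ∞) ≤ LocCoh.depth (Z.presheaf.stalk z)
      (EGA4.FibMod (X.presheaf.stalk (g z)) (Z.presheaf.stalk z) (Z.presheaf.stalk z)) := by
  let A := X.presheaf.stalk (g z)
  let B := Z.presheaf.stalk z
  letI : Algebra A B := (g.stalkMap z).hom.toAlgebra
  obtain ⟨e⟩ := Groth.L07.CIScheme.exists_fiberStalkEquiv g (g z) (g.asFiber z) z (g.fiberι_asFiber z)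
  obtain ⟨b, hb⟩ := Ideal.Quotient.mk_surjective (e.symm r)
  refine Groth.L01.one_le_depth (x := b) ((mem_maximalIdeal b).2 fun hu => ?_) ?_
  · exact hr ((e.apply_symm_apply r) ▸ ((hb ▸ hu.map (Ideal.Quotient.mk (EGA4.mB A B))).map e))
  · refine isSMulRegular_iff_right_eq_zero_of_smul.mpr fun v hv => ?_
    obtain ⟨v, rfl⟩ := Submodule.Quotient.mk_surjective _ v
    rw [← Submodule.Quotient.mk_smul, Submodule.Quotient.mk_eq_zero, smul_eq_mul,
      Ideal.mul_top, smul_eq_mul] at hv
    rw [Submodule.Quotient.mk_eq_zero, smul_eq_mul, Ideal.mul_top]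
    refine Ideal.Quotient.eq_zero_iff_mem.1 (e.map_eq_zero_iff.1 (hreg.left ?_))
    show r * e (Ideal.Quotient.mk _ v) = r * 0
    rw [mul_zero, ← e.apply_symm_apply r, ← map_mul, ← hb, ← map_mul, Ideal.Quotient.eq_zero_iff_mem.2 hv, map_zero]

/-- Torsion free stalks have positive depth at non-generic points. -/
theorem one_le_depth_stalk {X : Scheme.{u}} [IsReduced X] [IsLocallyNoetherian X] (F : X.Modules)
    (htF : TorSh.IsTorsionFree F) {u x : X} (h : u ⤳ x) (hne : u ≠ x) :
    (1 : ℕ∞) ≤ LocCoh.depth (X.presheaf.stalk x) (F.presheaf.stalk x) := by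
  obtain ⟨r, hr, hreg⟩ := exists_regular h hne
  haveI := htF x
  exact Groth.L01.one_le_depth hr (Module.IsTorsionFree.isSMulRegular hreg)

/-- A regular pair from positive depths of the module and of the closed fibre. -/
theorem exists_pair_pullback {Z X : Scheme.{u}} [IsLocallyNoetherian X] [IsLocallyNoetherian Z] (g : Z ⟶ X) [Flat g]
    (F : X.Modules) (hF : Coh.IsCoh F) (z : Z)
    (h1 : (1 : ℕ∞) ≤ LocCoh.depth (X.presheaf.stalk (g z)) (F.presheaf.stalk (g z)))
    (h2 : letI := (g.stalkMap z).hom.toAlgebra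
      (1 : ℕ∞) ≤ LocCoh.depth (Z.presheaf.stalk z)
        (EGA4.FibMod (X.presheaf.stalk (g z)) (Z.presheaf.stalk z) (Z.presheaf.stalk z))) :
    ∃ b ∈ maximalIdeal (Z.presheaf.stalk z), ∃ c ∈ maximalIdeal (Z.presheaf.stalk z),
      IsSMulRegular (((Scheme.Modules.pullback g).obj F).presheaf.stalk z) b ∧
      IsSMulRegular (QuotSMulTop b (((Scheme.Modules.pullback g).obj F).presheaf.stalk z)) c := by
  haveI : Coh.IsQCoh F := hF.1
  let A := X.presheaf.stalk (g z)
  let B := Z.presheaf.stalk z
  letI : Algebra A B := (g.stalkMap z).hom.toAlgebra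
  haveI : IsLocalHom (algebraMap A B) := g.toLRSHom.prop z
  haveI : Module.Flat A B := Flat.stalkMap g z
  let M := ((Scheme.Modules.pullback g).obj F).presheaf.stalk z
  rcases subsingleton_or_nontrivial M with hM | hM
  · haveI : Subsingleton (QuotSMulTop (0 : B) M) := (Submodule.mkQ_surjective _).subsingleton
    exact ⟨0, zero_mem _, 0, zero_mem _, Function.injective_of_subsingleton _,
      Function.injective_of_subsingleton _⟩
  haveI : Module.Finite A (F.presheaf.stalk (g z)) := by
    obtain ⟨V, hV, hx, -⟩ := exists_isAffineOpen_mem_and_subset (x := g z) (U := ⊤) trivial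
    haveI := IsLocallyNoetherian.component_noetherian ⟨V, hV⟩
    haveI := Groth.L20.ModStalk.finite_sections F hF hV
    letI := X.presheaf.algebra_section_stalk ⟨g z, hx⟩
    haveI := hV.isLocalization_stalk ⟨g z, hx⟩
    letI := Groth.L20.ModStalk.stalkModule F hx
    haveI : IsScalarTower Γ(X, V) A (F.presheaf.stalk (g z)) := ⟨fun a s m => mul_smul _ s m⟩
    haveI := Groth.L20.ModStalk.isLocalizedModule_germ F hV hx
    exact Module.Finite.of_isLocalizedModule (hV.primeIdealOf ⟨g z, hx⟩).asIdeal.primeCompl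
      (Groth.L20.ModStalk.germₗ F hx)
  let el : M ≃ₗ[B] B ⊗[A] F.presheaf.stalk (g z) :=
    ((Groth.L00.PullStalk.stalkIso g z).app F).toLinearEquiv
  haveI : Module.Finite B M := Module.Finite.equiv el.symm
  have hd : LocCoh.depth B M =
      LocCoh.depth A (F.presheaf.stalk (g z)) + LocCoh.depth B (EGA4.FibMod A B B) :=
    (Groth.L04.idealDepth_congr el).trans (L02.CMMor.depth_tensor (A := A) (B := B) B (F.presheaf.stalk (g z)))
  exact Groth.L10.RelCan.Hartogs.exists_pair (S := B) (F := M) (hd ▸ (one_add_one_eq_two (R := ℕ∞)) ▸ add_le_add h1 h2)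

end Groth.L11.ProdDepth
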